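import Cfsg.Agent.Lib.Helper5.CS4.Defs

/-!
# CS4 (S4146), package [FIX] (helper97, second seat)

A `t`-element fixes a point of a conjugacy class of size prime to `t`: the cyclic `t`-group
`zpowers x` acts on the cosets of `C(w)`, whose number is prime to `t`.
-/

set_option autoImplicit false

namespace Cfsg.Agent.Lib.Helper97.CS4

open Cfsg.Agent.Lib.Helper5.CS4

universe u

theorem pkgFix : PkgFix.{u} := by
  intro G _ _ x w t k ht hx hnd
  have : Fact t.Prime := ⟨ht⟩
  have hp : IsPGroup t (Subgroup.zpowers x) := by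
    rw [IsPGroup.iff_card]
    exact ⟨k, by rw [Nat.card_zpowers, hx]⟩
  have hcard : ¬ t ∣ Nat.card (G ⧸ Subgroup.centralizer ({w} : Set G)) := by
    rw [← Subgroup.index_eq_card]; exact hnd
  obtain ⟨q, hq⟩ := hp.nonempty_fixed_point_of_prime_not_dvd_card
    (G ⧸ Subgroup.centralizer ({w} : Set G)) hcard
  induction q using QuotientGroup.induction_on with
  | H g =>
    have h1 := hq ⟨x, Subgroup.mem_zpowers x⟩
    have h2 : ((x * g : G) : G ⧸ Subgroup.centralizer ({w} : Set G)) = (g : G ⧸ _) := h1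
    rw [QuotientGroup.eq, Subgroup.mem_centralizer_iff] at h2
    have h3 := h2 w rfl
    refine ⟨g, ?_⟩
    have hc : Commute x⁻¹ (g * w * g⁻¹) := by
      show x⁻¹ * (g * w * g⁻¹) = g * w * g⁻¹ * x⁻¹
      have e1 : g * w * g⁻¹ * x⁻¹ = g * (w * ((x * g)⁻¹ * g)) * g⁻¹ := by group
      have e2 : x⁻¹ * (g * w * g⁻¹) = g * ((x * g)⁻¹ * g * w) * g⁻¹ := by group
      rw [e1, e2, h3]
    have := hc.inv_left
    rw [inv_inv] at this
    exact this

end Cfsg.Agent.Lib.Helper97.CS4
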