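import Cfsg.Agent.Lib.Helper5.CS4.Defs
import Cfsg.Agent.Lib.Helper97.CS4.Fix
import Cfsg.Agent.Lib.Helper67.SylowLemmas

/-!
# CS4 (S4146), package [B4] (helper97, second seat)

If `p` divides no class size then every `p`-element is central: by [FIX] a `p`-element `x`
commutes with a conjugate of every `g`, so `G` is the union of the conjugates of `C(x)`.
-/

set_option autoImplicit false

namespace Cfsg.Agent.Lib.Helper97.CS4

open Cfsg.Agent.Lib.Helper5.CS4

universe u

theorem pkgSylCentral : PkgSylCentral.{u} := by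
  intro G _ _ p hp hnd x k hx
  have htop : Subgroup.centralizer ({x} : Set G) = ⊤ := by
    apply Cfsg.Agent.Lib.Helper67.eq_top_of_forall_exists_conj_mem
    intro g
    obtain ⟨h, hh⟩ := pkgFix x g p k hp hx (hnd g)
    refine ⟨h, ?_⟩
    rw [Subgroup.mem_centralizer_iff]
    intro y hy
    rw [Set.mem_singleton_iff] at hy
    rw [hy]; exact hh
  rw [Subgroup.mem_center_iff]
  intro g
  have hg : g ∈ Subgroup.centralizer ({x} : Set G) := htop ▸ Subgroup.mem_top g
  rw [Subgroup.mem_centralizer_iff] at hg
  exact (hg x rfl).symm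

end Cfsg.Agent.Lib.Helper97.CS4
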